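import Cfsg.Agent.H319.One.Base
import Cfsg.Agent.H198.UnitGamma
import Cfsg.Agent.H795.SplitRow

/-!
# S4880, `PSU`: dimensions of fixed spaces (helper144)
-/

set_option autoImplicit false

namespace Cfsg.Agent.H144.One

open Matrix Module

variable {F : Type} [Field F] {m : ℕ}

/-- dimension of the fixed space -/
noncomputable def fd (A : Matrix (Fin m) (Fin m) F) : ℕ := finrank F (LinearMap.ker (Matrix.toLin' (A - 1)))

theorem fd_add_rank (A : Matrix (Fin m) (Fin m) F) : fd A + (A - 1).rank = m := by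
  have h1 := LinearMap.finrank_range_add_finrank_ker (Matrix.toLin' (A - 1))
  rw [Module.finrank_fin_fun] at h1
  have h2 : (A - 1).rank = finrank F (LinearMap.range (Matrix.toLin' (A - 1))) := rfl
  rw [fd, h2]
  omega

variable [Fintype F]

theorem card_fix (A : Matrix (Fin m) (Fin m) F) : Nat.card {v : Fin m → F // A *ᵥ v = v} = Fintype.card F ^ fd A := by
  classical
  have h1 : Nat.card (LinearMap.ker (Matrix.toLin' (A - 1))) = Fintype.card F ^ fd A := by
    rw [fd, Nat.card_eq_fintype_card, ← Module.card_eq_pow_finrank (K := F)]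
  rw [← h1]
  refine Nat.card_congr (Equiv.subtypeEquivRight fun v => ?_)
  rw [LinearMap.mem_ker, Matrix.toLin'_apply, Matrix.sub_mulVec, Matrix.one_mulVec, sub_eq_zero]

theorem fd_eq {A B : Matrix (Fin m) (Fin m) F} (e : {v : Fin m → F // A *ᵥ v = v} ≃ {v : Fin m → F // B *ᵥ v = v}) :
    fd A = fd B := by
  have h1 := Nat.card_congr e
  rw [card_fix, card_fix] at h1
  exact Nat.pow_right_injective Fintype.one_lt_card h1

/-- semilinear conjugation -/
theorem fd_semi {A B g h : Matrix (Fin m) (Fin m) F} (σ : F ≃+* F) (hgh : g * h = 1)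
    (hB : B = g * A.map σ * h) : fd A = fd B := by
  have hhg : h * g = 1 := mul_eq_one_comm.1 hgh
  have key : ∀ v : Fin m → F, (A.map σ) *ᵥ (fun i => σ (v i)) = fun i => σ ((A *ᵥ v) i) := by
    intro v
    funext i
    simp [Matrix.mulVec, dotProduct]
  have key2 : ∀ v : Fin m → F, B *ᵥ (g *ᵥ fun i => σ (v i)) = g *ᵥ fun i => σ ((A *ᵥ v) i) := by
    intro v
    rw [hB, Matrix.mulVec_mulVec, Matrix.mul_assoc, Matrix.mul_assoc, hhg, Matrix.mul_one, ← key v,
      Matrix.mulVec_mulVec]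
  refine fd_eq ⟨fun v => ⟨g *ᵥ fun i => σ (v.1 i), ?_⟩, fun w => ⟨fun i => σ.symm ((h *ᵥ w.1) i), ?_⟩, ?_, ?_⟩
  · rw [key2, v.2]
  · have hw : g *ᵥ (fun i => σ (σ.symm ((h *ᵥ w.1) i))) = w.1 := by
      have h1 : (fun i => σ (σ.symm ((h *ᵥ w.1) i))) = h *ᵥ w.1 := by
        funext i
        exact σ.apply_symm_apply _
      rw [h1, Matrix.mulVec_mulVec, hgh, Matrix.one_mulVec]
    have h2 := key2 (fun i => σ.symm ((h *ᵥ w.1) i))
    rw [hw, w.2] at h2
    -- apply `h` and `σ.symm`
    have h3 : h *ᵥ w.1 = h *ᵥ (g *ᵥ fun i => σ ((A *ᵥ fun i => σ.symm ((h *ᵥ w.1) i)) i)) := congrArg (fun u => h *ᵥ u) h2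
    rw [Matrix.mulVec_mulVec _ h g, hhg, Matrix.one_mulVec] at h3
    funext i
    have h4 := congrFun h3 i
    apply σ.injective
    rw [← h4, σ.apply_symm_apply]
  · intro v
    apply Subtype.ext
    funext i
    change σ.symm ((h *ᵥ (g *ᵥ fun i => σ (v.1 i))) i) = v.1 i
    rw [Matrix.mulVec_mulVec, hhg, Matrix.one_mulVec]
    exact σ.symm_apply_apply _
  · intro w
    apply Subtype.ext
    have h1 : (fun i => σ (σ.symm ((h *ᵥ w.1) i))) = h *ᵥ w.1 := by
      funext i
      exact σ.apply_symm_apply _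
    change g *ᵥ (fun i => σ (σ.symm ((h *ᵥ w.1) i))) = w.1
    rw [h1, Matrix.mulVec_mulVec, hgh, Matrix.one_mulVec]

omit [Fintype F] in
theorem fd_diagonal (β : Fin m → F) : fd (diagonal β) + Nat.card {i // β i ≠ 1} = m := by
  classical
  have h1 := fd_add_rank (diagonal β)
  have h2 : (diagonal β - 1 : Matrix (Fin m) (Fin m) F) = diagonal (fun i => β i - 1) := by
    rw [← diagonal_one, diagonal_sub]
  rw [h2, rank_diagonal] at h1
  rw [Nat.card_eq_fintype_card]
  have h3 : Fintype.card {i // β i - 1 ≠ 0} = Fintype.card {i // β i ≠ 1} :=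
    Fintype.card_congr (Equiv.subtypeEquivRight fun i => by rw [sub_ne_zero])
  rw [← h3]
  exact h1

end Cfsg.Agent.H144.One
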