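import Cfsg.Agent.H144.One.Fix
import Cfsg.Agent.H319.One.Line
import Cfsg.Agent.H634.ElPSU

/-!
# S4880: `PSU_m(q)`, cross characteristic (helper144)
-/

set_option autoImplicit false

open Cfsg Subgroup

namespace Cfsg.Agent.H144.One

open Cfsg.Agent.H319.One Cfsg.Agent.H634.HypS Cfsg.Agent.H634.Dim Cfsg.Agent.H634.Num Cfsg.Agent.H634.El
  Cfsg.Agent.LieClassical.SUBasic Cfsg.Agent.ClassicalGeometry.PSUAutCount Cfsg.Agent.LieClassical.HermSiegel
  Cfsg.Agent.H198.UnitGamma Matrix

variable {p n : ℕ} [hp : Fact p.Prime] {F : Type} [Field F] [Fintype F] {m q : ℕ}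

/-- automorphisms preserve the dimension of the fixed space of the lifts of order `p` -/
theorem fd_inv (hF : Fintype.card F = q ^ 2) (hm : 3 ≤ m) (h32 : ¬ (m = 3 ∧ q = 2)) (hc : ¬ p ∣ Nat.gcd m (q + 1))
    (φ : MulAut (PSU m F q)) (x y : SU m F q) (hx : x ^ p = 1) (hy : y ^ p = 1)
    (h : φ (QuotientGroup.mk x) = QuotientGroup.mk y) : fd (mat x) = fd (mat y) := by
  obtain ⟨A, ρ, rfl⟩ := ClassicalGeometry.PSUAutMain.exists_toAut hF hm h32 φ
  rw [mk_toAut] at h
  have h1 : (semiConj A ρ x)⁻¹ * y ∈ Subgroup.center (SU m F q) := QuotientGroup.eq.1 h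
  obtain ⟨c, hcn, hcq, hz⟩ := (mem_center_SU_iff hF hm _).1 h1
  set z : SU m F q := suScalar q c hcn hcq with hzdef
  have hyz : y = semiConj A ρ x * z := by rw [← hz]; group
  have hzc : z ∈ Subgroup.center (SU m F q) := by rw [← hz]; exact h1
  have hsx : (semiConj A ρ x) ^ p = 1 := by rw [← map_pow, hx, map_one]
  have hzp : z ^ p = 1 := by
    have h2 : Commute (semiConj A ρ x) z := (Subgroup.mem_center_iff.1 hzc _)
    have h3 : y ^ p = (semiConj A ρ x) ^ p * z ^ p := by rw [hyz, h2.mul_pow]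
    rw [hy, hsx, one_mul] at h3
    exact h3.symm
  have hz1 : z = 1 := by
    have h4 : z ^ Nat.gcd m (q + 1) = 1 := su_center_pow hcn hcq (pow_gcd_eq_one.2 ⟨hcn, hcq⟩)
    have h5 : z ^ Nat.gcd p (Nat.gcd m (q + 1)) = 1 := pow_gcd_eq_one.2 ⟨hzp, h4⟩
    rwa [(Nat.Prime.coprime_iff_not_dvd hp.out).2 hc, pow_one] at h5
  rw [hz1, mul_one] at hyz
  rw [hyz]
  exact fd_semi ρ (by rw [← gm_mul, mul_inv_cancel, gm_one]) (mat_semiConj A ρ x)

/-- `p ∣ q + 1`, `p ≤ m` -/
theorem psu_notAb (hF : Fintype.card F = q ^ 2) (hp5 : 5 ≤ p) (hq : p ∣ q + 1) (hpm : p ≤ m) :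
    H800.Sp.NotAb p (PSU m F q) := by
  obtain ⟨hq0, f, hf⟩ := H104.RowPSU.exists_frobF hF
  have hqF : p ∣ Fintype.card F - 1 := by
    rw [hF]
    have : q ^ 2 - 1 = (q + 1) * (q - 1) := by
      have := Nat.sq_sub_sq q 1
      simpa using this
    rw [this]
    exact Dvd.dvd.mul_right hq _
  obtain ⟨a, ha, ha1⟩ := H104.RowPSL.exists_root hqF
  refine H795.Split.big_proj (by omega) (H795.Split.hasMon_su hF hq) (by omega) hpm ha ha1
    (QuotientGroup.mk' (Subgroup.center (SU m F q))) ?_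
  intro z
  rw [H104.RowPSU.mk_eq_one_iff hF (by omega) z]
  constructor
  · rintro ⟨c, -, -, h⟩
    exact ⟨c, h⟩
  · rintro ⟨c, h⟩
    have h' : ((z : Matrix.SpecialLinearGroup (Fin m) F) : Matrix (Fin m) (Fin m) F) = Matrix.scalar (Fin m) c := h
    refine ⟨c, ?_, ?_, h⟩
    · have h1 := H795.Split.det_mt z
      rw [h] at h1
      simpa using h1
    · have h1 : ((z : Matrix.SpecialLinearGroup (Fin m) F) : Matrix (Fin m) (Fin m) F).transpose *
        ((z : Matrix.SpecialLinearGroup (Fin m) F) : Matrix (Fin m) (Fin m) F).map f = 1 :=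
        (H104.RowPSU.mem_SU_iff hf _).1 z.2
      rw [h', show Matrix.scalar (Fin m) c = diagonal fun _ => c from rfl, diagonal_transpose,
        Matrix.diagonal_map (map_zero f), diagonal_mul_diagonal] at h1
      have h2 := congrFun (congrFun h1 ⟨0, by omega⟩) ⟨0, by omega⟩
      rw [diagonal_apply_eq, one_apply_eq] at h2
      rw [pow_succ', ← hf]
      exact h2

omit hp [Fintype F] in
theorem false_of_notAb {S : Type*} [Group S] [Finite S] [Fact p.Prime] (h : H319.One.Hyp p n S) (h' : H800.Sp.NotAb p S) : False := by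
  obtain ⟨P⟩ : Nonempty (Sylow p S) := inferInstance
  refine h' P ⟨⟨fun a b => Subtype.ext ?_⟩⟩
  exact h.comm P P.2 a a.2 b b.2

omit [Fintype F] hp in
theorem prod_three {k l o : Fin m} (hkl : k ≠ l) (hko : k ≠ o) (hlo : l ≠ o) (a b c : F) :
    ∏ i, (if i = k then a else if i = l then b else if i = o then c else 1) = a * b * c := by
  have h1 : ∀ i : Fin m, (if i = k then a else if i = l then b else if i = o then c else 1) =
      (if i = k then a else 1) * (if i = l then b else 1) * (if i = o then c else 1) := by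
    intro i
    by_cases h1 : i = k
    · subst h1
      simp [hkl, hko]
    · by_cases h2 : i = l
      · subst h2
        simp [h1, hlo]
      · simp [h1, h2]
  rw [Finset.prod_congr rfl fun i _ => h1 i, Finset.prod_mul_distrib, Finset.prod_mul_distrib,
    Finset.prod_ite_eq' Finset.univ k, Finset.prod_ite_eq' Finset.univ l, Finset.prod_ite_eq' Finset.univ o]
  simp

theorem order_mk (hF : Fintype.card F = q ^ 2) (hm : 3 ≤ m) {x : SU m F q} (hx : x ^ p = 1)
    {i j : Fin m} (hij : mat x i i ≠ mat x j j) : orderOf (QuotientGroup.mk x : PSU m F q) = p := by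
  apply orderOf_eq_prime
  · rw [← QuotientGroup.mk_pow, hx]
    rfl
  · intro h
    have h1 : x ∈ Subgroup.center (SU m F q) := (QuotientGroup.eq_one_iff x).1 h
    obtain ⟨c, hcn, hcq, hz⟩ := (mem_center_SU_iff hF hm _).1 h1
    apply hij
    rw [hz, mat_def, coe_suScalar, diagonal_apply_eq, diagonal_apply_eq]

theorem small (hF : Fintype.card F = q ^ 2) (hm : 3 ≤ m) (h32 : ¬ (m = 3 ∧ q = 2)) (hq : p ∣ q + 1) (hmp : m < p)
    (h : H319.One.Hyp p n (PSU m F q)) : False := by
  classical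
  have hp5 := h.five
  have hqF : p ∣ Fintype.card F - 1 := by
    rw [hF]
    have : q ^ 2 - 1 = (q + 1) * (q - 1) := by
      have := Nat.sq_sub_sq q 1
      simpa using this
    rw [this]
    exact Dvd.dvd.mul_right hq _
  obtain ⟨a, ha, ha1⟩ := H104.RowPSL.exists_root hqF
  have ha0 : a ≠ 0 := H795.Split.ne_zero_of_pow ha
  have hord : orderOf a = p := orderOf_eq_prime ha ha1
  have hH := H795.Split.hasMon_su (n := m) (p := p) hF hq
  let k : Fin m := ⟨0, by omega⟩
  let l : Fin m := ⟨1, by omega⟩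
  let o : Fin m := ⟨2, by omega⟩
  have hkl : k ≠ l := by simp [k, l]
  have hko : k ≠ o := by simp [k, o]
  have hlo : l ≠ o := by simp [l, o]
  have ha2 : a ^ 2 ≠ 1 := by
    intro h2
    have := orderOf_dvd_of_pow_eq_one h2
    rw [hord] at this
    have := Nat.le_of_dvd (by norm_num) this
    omega
  have ha3 : a ^ 3 ≠ 1 := by
    intro h2
    have := orderOf_dvd_of_pow_eq_one h2
    rw [hord] at this
    have := Nat.le_of_dvd (by norm_num) this
    omega
  let β : Fin m → F := fun i => if i = k then a else if i = l then a⁻¹ else if i = o then 1 else 1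
  let γ : Fin m → F := fun i => if i = k then a else if i = l then a else if i = o then (a ^ 2)⁻¹ else 1
  have hai : a⁻¹ ≠ 1 := inv_ne_one.2 ha1
  have ha2i : (a ^ 2)⁻¹ ≠ 1 := inv_ne_one.2 ha2
  have hβp : ∀ i, β i ^ p = 1 := by
    intro i
    simp only [β]
    split_ifs
    · exact ha
    · rw [inv_pow, ha, inv_one]
    · exact one_pow p
    · exact one_pow p
  have hγp : ∀ i, γ i ^ p = 1 := by
    intro i
    simp only [γ]
    split_ifs
    · exact ha
    · exact ha
    · rw [inv_pow, ← pow_mul, mul_comm, pow_mul, ha, one_pow, inv_one]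
    · exact one_pow p
  obtain ⟨x, hx⟩ := H795.Split.exists_diag hH (β := β) (by
    rw [prod_three hkl hko hlo, mul_one, mul_inv_cancel₀ ha0]) hβp
  obtain ⟨y, hy⟩ := H795.Split.exists_diag hH (β := γ) (by
    rw [prod_three hkl hko hlo, ← pow_two, mul_inv_cancel₀ (pow_ne_zero 2 ha0)]) hγp
  have hxm : mat x = diagonal β := hx
  have hym : mat y = diagonal γ := hy
  have hpow : ∀ (z : SU m F q) (δ : Fin m → F), mat z = diagonal δ → (∀ i, δ i ^ p = 1) → z ^ p = 1 := by
    intro z δ hz hδ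
    apply H795.Split.mt_inj (SU m F q)
    rw [map_pow, map_one]
    have hz' : H795.Split.mt (SU m F q) z = diagonal δ := hz
    rw [hz', diagonal_pow, ← diagonal_one]
    congr 1
    funext i
    exact hδ i
  have hxp := hpow x β hxm hβp
  have hyp := hpow y γ hym hγp
  have hβk : β k = a := by simp [β]
  have hβl : β l = a⁻¹ := by simp [β, hkl.symm]
  have hβo : β o = 1 := by simp [β, hko.symm, hlo.symm]
  have hγk : γ k = a := by simp [γ]
  have hγl : γ l = a := by simp [γ]
  have hγo : γ o = (a ^ 2)⁻¹ := by simp [γ, hko.symm, hlo.symm]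
  have hox := order_mk hF hm hxp (i := k) (j := o) (by
    rw [hxm, diagonal_apply_eq, diagonal_apply_eq, hβk, hβo]
    exact ha1)
  have hoy := order_mk hF hm hyp (i := k) (j := o) (by
    rw [hym, diagonal_apply_eq, diagonal_apply_eq, hγk, hγo]
    intro h4
    apply ha3
    have h5 : a * a ^ 2 = 1 := by
      nth_rewrite 1 [h4]
      exact inv_mul_cancel₀ (pow_ne_zero 2 ha0)
    rw [pow_succ', h5])
  obtain ⟨φ, hφ⟩ := h.one _ _ hox hoy
  have hcen : ¬ p ∣ Nat.gcd m (q + 1) := by
    intro h4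
    have := Nat.le_of_dvd (by omega) (h4.trans (Nat.gcd_dvd_left m (q + 1)))
    omega
  have hfd := fd_inv hF hm h32 hcen φ x y hxp hyp hφ
  have h5 := fd_diagonal (F := F) β
  have h6 := fd_diagonal (F := F) γ
  rw [← hxm, hfd] at h5
  rw [← hym] at h6
  have h7 : Nat.card {i // β i ≠ 1} = 2 := by
    have h8 : {i | β i ≠ 1} = ({k, l} : Finset (Fin m)) := by
      ext i
      simp only [Set.mem_setOf_eq, Finset.coe_insert, Finset.coe_singleton, Set.mem_insert_iff,
        Set.mem_singleton_iff]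
      constructor
      · intro h9
        by_contra h10
        push Not at h10
        apply h9
        simp [β, h10.1, h10.2]
      · rintro (rfl | rfl)
        · rw [hβk]; exact ha1
        · rw [hβl]; exact hai
    have h9 : Nat.card {i // β i ≠ 1} = Set.ncard {i | β i ≠ 1} := rfl
    rw [h9, h8, Set.ncard_coe_finset, Finset.card_pair hkl]
  have h8 : Nat.card {i // γ i ≠ 1} = 3 := by
    have h8 : {i | γ i ≠ 1} = ({k, l, o} : Finset (Fin m)) := by
      ext i
      simp only [Set.mem_setOf_eq, Finset.coe_insert, Finset.coe_singleton, Set.mem_insert_iff,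
        Set.mem_singleton_iff]
      constructor
      · intro h9
        by_contra h10
        push Not at h10
        apply h9
        simp [γ, h10.1, h10.2.1, h10.2.2]
      · rintro (rfl | rfl | rfl)
        · rw [hγk]; exact ha1
        · rw [hγl]; exact ha1
        · rw [hγo]; exact ha2i
    have h9 : Nat.card {i // γ i ≠ 1} = Set.ncard {i | γ i ≠ 1} := rfl
    rw [h9, h8, Set.ncard_coe_finset, Finset.card_eq_three.2 ⟨k, l, o, hkl, hko, hlo, rfl⟩]
  omega

theorem sum_ge {p n : ℕ} (hp5 : 5 ≤ p) (hn : 2 ≤ n) : 2 * (n + 1) ≤ ∑ i ∈ Finset.range n, p ^ i := by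
  induction n, hn using Nat.le_induction with
  | base =>
    rw [Finset.sum_range_succ, Finset.sum_range_succ, Finset.sum_range_zero, pow_zero, pow_one]
    omega
  | succ n hn ih =>
    rw [Finset.sum_range_succ]
    have h1 : p ≤ p ^ n := Nat.le_self_pow (by omega) p
    omega

/-- **`PSU_m(q)`, cross characteristic.** -/
theorem row_psu (hF : Fintype.card F = q ^ 2) (hm : 3 ≤ m) (h32 : ¬ (m = 3 ∧ q = 2)) (hpq : ¬ p ∣ q)
    (h : H319.One.Hyp p n (PSU m F q)) : False := by
  classical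
  have hp5 := h.five
  have hq1 : 1 ≤ q := by
    have := Fintype.one_lt_card (α := F)
    rw [hF] at this
    by_contra h
    have h0 : q = 0 := by omega
    rw [h0] at this
    norm_num at this
  by_cases hpm : p ∣ q + 1
  · rcases Nat.lt_or_ge m p with h1 | h1
    · exact small hF hm h32 hpm h1 h
    · exact false_of_notAb h (psu_notAb hF hp5 hpm h1)
  have hcen : ¬ p ∣ Nat.gcd m (q + 1) := fun h4 => hpm (h4.trans (Nat.gcd_dvd_right m (q + 1)))
  have hcard := S0280.result hF m (by omega)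
  have hq0 : (-(q : ZMod p)) ≠ 0 := neg_ne_zero.2 (zmod_ne_zero hpq)
  obtain ⟨d, hd⟩ : ∃ d, d = orderOf (-(q : ZMod p)) := ⟨_, rfl⟩
  have hd0 : 0 < d := by
    rw [hd]
    exact orderOf_pos_iff.2 (isOfFinOrder_iff_pow_eq_one.2 ⟨p - 1, by omega, ZMod.pow_card_sub_one_eq_one hq0⟩)
  have hd1 : (-(q : ZMod p)) ^ d = 1 := by
    rw [hd]
    exact pow_orderOf_eq_one _
  have h1 : p ^ (m / d) ∣ ∏ i ∈ Finset.range m, (if Even i then q ^ (i + 1) + 1 else q ^ (i + 1) - 1) := by
    have h0 := pow_dvd_prod (p := p) (d := d) (fun j => if Even j then q ^ j - 1 else q ^ j + 1) (fun k _ => ?_) m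
    · refine h0.trans (dvd_of_eq (Finset.prod_congr rfl fun i _ => ?_))
      by_cases hi : Even i
      · rw [if_pos hi, if_neg (Nat.not_even_iff_odd.2 hi.add_one)]
      · rw [if_neg hi, if_pos (Nat.not_even_iff_odd.1 hi).add_one]
    · have h9 : (-(q : ZMod p)) ^ (d * k) = 1 := by rw [pow_mul, hd1, one_pow]
      split_ifs with hi
      · apply dvd_sub_one_of_pow hq1
        rwa [hi.neg_pow] at h9
      · apply dvd_add_one_of_pow
        rw [(Nat.not_even_iff_odd.1 hi).neg_pow] at h9
        rw [← h9, neg_neg]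
  have h2 : p ^ (m / d) ∣ (Nat.gcd m (q + 1)) * ((q + 1) * Nat.card (PSU m F q)) := by
    rw [hcard]
    exact h1.mul_left _
  have h3 : p ^ (m / d) ∣ Nat.card (PSU m F q) := by
    have hc : (p ^ (m / d)).Coprime (q + 1) := Nat.Coprime.pow_left _ ((Nat.Prime.coprime_iff_not_dvd hp.out).2 hpm)
    have hc' : (p ^ (m / d)).Coprime (Nat.gcd m (q + 1)) := Nat.Coprime.coprime_dvd_right (Nat.gcd_dvd_right _ _) hc
    exact hc.dvd_of_dvd_mul_left (hc'.dvd_of_dvd_mul_left h2)
  have h4 := h.le_of_dvd h3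
  have h6 : m < (n + 1) * d := (Nat.div_lt_iff_lt_mul hd0).1 (by omega)
  have hfin : Finite (PSU m F q) := Quotient.finite _
  have hord : d ≤ 2 * orderOf (Fintype.card F : ZMod p) := by
    have h7 : (-(q : ZMod p)) ^ (2 * orderOf (Fintype.card F : ZMod p)) = 1 := by
      rw [pow_mul, neg_sq, ← Nat.cast_pow, ← hF]
      exact pow_orderOf_eq_one _
    have h8 : 0 < orderOf (Fintype.card F : ZMod p) := by
      rw [orderOf_pos_iff, isOfFinOrder_iff_pow_eq_one]
      have : (Fintype.card F : ZMod p) ≠ 0 := by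
        rw [hF, Nat.cast_pow]
        exact pow_ne_zero 2 (zmod_ne_zero hpq)
      exact ⟨p - 1, by omega, ZMod.pow_card_sub_one_eq_one this⟩
    rw [hd]
    exact Nat.le_of_dvd (by omega) (orderOf_dvd_of_pow_eq_one h7)
  have h9 := sum_ge hp5 h.two
  refine classical_false h ((Matrix.SpecialLinearGroup.toGL).comp (SU m F q).subtype) ?_
    (QuotientGroup.mk' (Subgroup.center (SU m F q))) (QuotientGroup.mk'_surjective _) ?_ ?_ ?_ ?_
  · intro a b hab
    have h10 : (Matrix.SpecialLinearGroup.toGL (a : Matrix.SpecialLinearGroup (Fin m) F)) =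
      Matrix.SpecialLinearGroup.toGL (b : Matrix.SpecialLinearGroup (Fin m) F) := hab
    apply Subtype.ext
    apply Subtype.ext
    exact congrArg Units.val h10
  · rw [QuotientGroup.ker_mk']
    intro h10
    obtain ⟨z, hz⟩ := exists_prime_orderOf_dvd_card' p h10
    obtain ⟨c, hcn, hcq, hz'⟩ := (mem_center_SU_iff hF hm _).1 z.2
    have h11 : (z : SU m F q) ^ Nat.gcd m (q + 1) = 1 := by
      rw [hz']
      exact su_center_pow hcn hcq (pow_gcd_eq_one.2 ⟨hcn, hcq⟩)
    have h12 : z ^ Nat.gcd m (q + 1) = 1 := Subtype.ext h11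
    exact hcen (hz ▸ orderOf_dvd_of_pow_eq_one h12)
  · rw [hF]
    exact fun h10 => hpq (hp.out.dvd_of_dvd_pow h10)
  · intro φ x y hx hy hxy
    exact fd_inv hF hm h32 hcen φ x y (by rw [← hx]; exact pow_orderOf_eq_one x)
      (by rw [← hy]; exact pow_orderOf_eq_one y) hxy
  · rw [Fintype.card_fin]
    calc m < (n + 1) * d := h6
      _ ≤ (n + 1) * (2 * orderOf (Fintype.card F : ZMod p)) := Nat.mul_le_mul_left _ hord
      _ = orderOf (Fintype.card F : ZMod p) * (2 * (n + 1)) := by ring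
      _ ≤ _ := Nat.mul_le_mul_left _ h9

end Cfsg.Agent.H144.One
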